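import Groth.Agent.DimFormula.JacobsonLocal
import Groth.Agent.H23.StalkPrimes
import Groth.Agent.H23.CapSheaf
import Groth.Agent.QCoh.Support
import Mathlib.RingTheory.KrullDimension.Module

/-!
# Support dimensions of stalks and generizations
-/

set_option autoImplicit false
set_option backward.isDefEq.respectTransparency false
set_option backward.isDefEq.respectTransparency.types false

universe u

open CategoryTheory AlgebraicGeometry Topology

namespace Groth.Agent.RectJac

open Groth.Agent Groth.Agent.CDiv6 Groth.Agent.H23 Groth.Agent.H23.StalkPrimes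

variable {X : Scheme.{u}} [IsLocallyNoetherian X] {F : X.Modules}

theorem mem_support_stalk_iff (hF : Coh.IsCoh F) (x : X) (q : PrimeSpectrum (X.presheaf.stalk x)) :
    q ∈ Module.support (X.presheaf.stalk x) (F.presheaf.stalk x) ↔ X.fromSpecStalk x q ∈ CohB1.support F := by
  obtain ⟨ξ, hξ, he⟩ := StalkPrimes.exists_point q.asIdeal
  have hq : q = primeOf hξ := PrimeSpectrum.ext he.symm
  rw [hq, fromSpecStalk_primeOf, Module.mem_support_iff]
  show _ ↔ ¬ Subsingleton (F.presheaf.stalk ξ)
  rw [← not_subsingleton_iff_nontrivial, not_iff_not,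
    ← Module.length_eq_zero_iff (R := Localization.AtPrime (primeOf hξ).asIdeal),
    ← Module.length_eq_zero_iff (R := X.presheaf.stalk ξ), CapSheaf.length_stalk_eq hF.1 hξ]

theorem supportDim_stalk_eq_gen (hF : Coh.IsCoh F) (x : X) :
    Module.supportDim (X.presheaf.stalk x) (F.presheaf.stalk x) =
      topologicalKrullDim ↥{t : X | t ∈ CohB1.support F ∧ t ⤳ x} := by
  haveI := QCoh.finite_stalk_of_isFT hF.1 hF.2 x
  let I := Module.annihilator (X.presheaf.stalk x) (F.presheaf.stalk x)
  rw [Module.supportDim_eq_ringKrullDim_quotient_annihilator, ← PrimeSpectrum.topologicalKrullDim_eq_ringKrullDim]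
  have hg : IsClosedEmbedding (PrimeSpectrum.comap (Ideal.Quotient.mk I)) :=
    PrimeSpectrum.isClosedEmbedding_comap_of_surjective _ _ Ideal.Quotient.mk_surjective
  have hrange : Set.range (X.fromSpecStalk x ∘ PrimeSpectrum.comap (Ideal.Quotient.mk I)) =
      {t : X | t ∈ CohB1.support F ∧ t ⤳ x} := by
    rw [Set.range_comp, range_comap_of_surjective _ _ Ideal.Quotient.mk_surjective, Ideal.mk_ker,
      ← Module.support_eq_zeroLocus]
    ext t
    constructor
    · rintro ⟨q, hq, rfl⟩
      exact ⟨(mem_support_stalk_iff hF x q).1 hq, Scheme.range_fromSpecStalk.le ⟨q, rfl⟩⟩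
    · rintro ⟨ht, htx⟩
      obtain ⟨q, rfl⟩ := Scheme.range_fromSpecStalk.ge htx
      exact ⟨q, (mem_support_stalk_iff hF x q).2 ht, rfl⟩
  rw [← hrange]
  exact ((X.fromSpecStalk x).isEmbedding.comp hg.isEmbedding).toHomeomorph.isHomeomorph.topologicalKrullDim_eq

theorem dim_closure_add_supportDim [JacobsonSpace X] (h : DimFormula.DimGood X) (hF : Coh.IsCoh F) (x : X)
    (hx : x ∈ CohB1.support F) :
    topologicalKrullDim ↥(closure ({x} : Set X)) +
        Module.supportDim ↑(X.presheaf.stalk x) ↑(F.presheaf.stalk x) =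
      FlatMor.localDim ↥(CohB1.support F) ⟨x, hx⟩ := by
  obtain ⟨η, -, hηx, -, h1, h2⟩ := h.exists_top (QCoh.isClosed_support_of_isFT hF.1 hF.2) hx
  rw [supportDim_stalk_eq_gen hF, h1, h2, h.dim_closure, h.dd_add hηx]
  norm_cast

end Groth.Agent.RectJac
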