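import Groth.Agent.RectJac.Basic
import Groth.Agent.RectCons.Regular
import Groth.Agent.S0603
import Groth.Agent.RegLoc6.Serre
import Groth.Agent.LC.GorRows
import Groth.Agent.LC.GorHull
import Groth.Agent.AssLib.OpenRestrict
import Groth.Agent.H23.SpClosed
import Groth.Agent.H23.FinCondSch
import Groth.Agent.Alg6.LocLoc
import Groth.Agent.KRegLib.Regular
import Groth.Agent.KZ.Localization
import Mathlib.RingTheory.RegularLocalRing.Polynomial

/-!
# Lower semicontinuity of the rectified depth over regular Jacobson bases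
-/

set_option autoImplicit false
set_option linter.style.haveILetI false
set_option backward.isDefEq.respectTransparency false
set_option backward.isDefEq.respectTransparency.types false

universe u

open CategoryTheory AlgebraicGeometry Topology IsLocalRing

noncomputable section

namespace Groth.Agent.RectJac

open Groth.Agent Groth.Agent.DimFormula

theorem isUniversallyCatenary_of_regular (R : Type u) [CommRing R] [IsRegularLocalRing R] :
    CAlg.IsUniversallyCatenary R := by
  haveI := RegLoc6.isRegularRing_of_isRegularLocalRing R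
  haveI : LocCoh.IsCohenMacaulayRing R := ⟨fun p hp => by
    haveI : IsRegularLocalRing (Localization.AtPrime p) := inferInstance
    haveI := LC.gorenstein_of_isRegularLocalRing (R := Localization.AtPrime p)
    exact LC.isCohenMacaulayLocalRing_of_gorenstein⟩
  exact Groth.Agent.S0603.result R

variable {X S : Scheme.{u}}

/-- A regular Jacobson scheme with equidimensional components carries a dimension function. -/
theorem dimGood_base [IsLocallyNoetherian S] (hreg : ∀ s : S, IsRegularLocalRing ↑(S.presheaf.stalk s))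
    (h3 : ∀ S' ∈ irreducibleComponents (S : Type u), ∀ s ∈ S', IsClosed ({s} : Set S) →
      topologicalKrullDim (↥S' : Type u) = topologicalKrullDim ↥{t : S | t ∈ S' ∧ t ⤳ s}) : DimGood S :=
  dimGood_of (fun s => haveI := hreg s; isUniversallyCatenary_of_regular _) h3

theorem dimGood_over [IsLocallyNoetherian S] [JacobsonSpace S] (hreg : ∀ s : S, IsRegularLocalRing ↑(S.presheaf.stalk s))
    (hS : DimGood S) (g : X ⟶ S) [LocallyOfFiniteType g] : DimGood X :=
  (dimGood_of_locallyOfFiniteType g hS (fun s => haveI := hreg s; isUniversallyCatenary_of_regular _)).1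

theorem dd_immersion [IsLocallyNoetherian X] {W : Scheme.{u}} [IsLocallyNoetherian W] (j : W ⟶ X) [IsImmersion j]
    [JacobsonSpace X] (hW : DimGood W) (hX : DimGood X) (w : W) : dd (j w) = dd w := by
  obtain ⟨s, hs, hc⟩ := SchTop.exists_isClosed_specializes w
  have hjc : IsClosed ({j s} : Set X) := j.closePoints_subset_preimage_closedPoints hc
  rw [hX.dd_eq (hs.map j.continuous) hjc, hW.dd_eq hs hc]
  obtain ⟨O, C, hO, hC, hOC⟩ := j.isLocallyClosed_range
  refine cd_eq_of_embedding j j.isEmbedding fun t h1 h2 => hOC.ge ⟨?_, ?_⟩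
  · exact h2.mem_open hO (hOC.le ⟨s, rfl⟩).1
  · exact h1.mem_closed hC (hOC.le ⟨w, rfl⟩).2

/-- The rectified depth. -/
abbrev prof (F : X.Modules) (x : X) : WithBot ℕ∞ :=
  ((LocCoh.depth ↑(X.presheaf.stalk x) ↑(F.presheaf.stalk x) : ℕ∞) : WithBot ℕ∞) +
    topologicalKrullDim ↥(closure ({x} : Set X))

theorem depth_restrict (j : X ⟶ S) [IsOpenImmersion j] (M : S.Modules) (z : X) :
    LocCoh.depth (S.presheaf.stalk (j z)) (M.presheaf.stalk (j z)) =
      LocCoh.depth (X.presheaf.stalk z) ((M.restrict j).presheaf.stalk z) := by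
  obtain ⟨e, he⟩ := AssLib.exists_semilinear_restrict j M z
  refine Alg6.depth_eq_of_semilinear (j.stalkMap z).hom (ConcreteCategory.bijective_of_isIso (j.stalkMap z)).2
    e.symm fun a m => e.injective ?_
  rw [he, e.apply_symm_apply, e.apply_symm_apply]

theorem depth_push {W : Scheme.{u}} (i : W ⟶ X) [IsClosedImmersion i] (G : W.Modules) (w : W) :
    LocCoh.depth (X.presheaf.stalk (i w)) (((Coh.push i).obj G).presheaf.stalk (i w)) =
      LocCoh.depth (W.presheaf.stalk w) (G.presheaf.stalk w) := by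
  letI : Module (X.presheaf.stalk (i w)) (G.presheaf.stalk w) := Module.compHom _ (i.stalkMap w).hom
  obtain ⟨e⟩ := H23.SpClosed.nonempty_stalkEquiv i G w
  exact Alg6.depth_eq_of_semilinear (i.stalkMap w).hom (i.stalkMap_surjective w) e.toAddEquiv fun t m => e.map_smul t m

theorem prof_restrict [IsLocallyNoetherian X] [IsLocallyNoetherian S] [JacobsonSpace S] [JacobsonSpace X]
    (j : X ⟶ S) [IsOpenImmersion j] (hX : DimGood X) (hS : DimGood S) (M : S.Modules) (z : X) :
    prof M (j z) = prof (M.restrict j) z := by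
  rw [prof, prof, depth_restrict, hS.dim_closure, hX.dim_closure, dd_immersion j hX hS]

theorem prof_push {W : Scheme.{u}} [IsLocallyNoetherian X] [IsLocallyNoetherian W] [JacobsonSpace W] [JacobsonSpace X]
    (i : W ⟶ X) [IsClosedImmersion i] (hW : DimGood W) (hX : DimGood X) (G : W.Modules) (w : W) :
    prof ((Coh.push i).obj G) (i w) = prof G w := by
  rw [prof, prof, depth_push, hX.dim_closure, hW.dim_closure, dd_immersion i hW hX]

theorem isRegularLocalRing_stalk_Spec (R : CommRingCat.{u}) [IsRegularRing R] (x : Spec R) :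
    IsRegularLocalRing ↑((Spec R).presheaf.stalk x) := by
  haveI : IsRegularLocalRing (Localization.AtPrime x.asIdeal) := inferInstance
  exact IsRegularLocalRing.of_ringEquiv (IsLocalization.algEquiv x.asIdeal.primeCompl
    (Localization.AtPrime x.asIdeal) ((Spec.structureSheaf R).presheaf.stalk x)).toRingEquiv

theorem isOpen_prof_irreducible [IsNoetherian X] [IrreducibleSpace X] [JacobsonSpace X] (h : DimGood X)
    (hreg : ∀ x : X, IsRegularLocalRing ↑(X.presheaf.stalk x)) {F : X.Modules} (hF : Coh.IsCoh F) (n : ℕ) :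
    IsOpen {x : X | (n : WithBot ℕ∞) ≤ prof F x} := by
  refine RectCons.isOpen_rectified F hreg ?_ (fun C hC => ?_) (fun y T hT hTi hy => ?_) hF n
  · rw [h.dim_irreducible]
    exact WithBot.coe_lt_coe.2 (ENat.coe_lt_top _)
  · rw [irreducibleComponents_eq_singleton, Set.mem_singleton_iff] at hC
    subst hC
    exact (Homeomorph.Set.univ X).isHomeomorph.topologicalKrullDim_eq
  · obtain ⟨ξ, hξ⟩ := QuasiSober.sober hTi hT
    obtain rfl : closure {ξ} = T := hξ
    have hξy : ξ ⤳ y := specializes_iff_mem_closure.2 hy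
    rw [h.dim_closure, h.dim_closure, topologicalKrullDim_gen isClosed_closure, h.dd_add hξy,
      show (⨆ η : {η : X // η ∈ closure {ξ} ∧ η ⤳ y}, ((cd η.1 y : ℕ∞) : WithBot ℕ∞)) = ((cd ξ y : ℕ∞) : WithBot ℕ∞) from ?_]
    · norm_cast
    refine le_antisymm (iSup_le fun t => ?_) (le_iSup_of_le ⟨ξ, subset_closure rfl, hξy⟩ le_rfl)
    have := cd_add_cd_le t.2.2 (specializes_iff_mem_closure.2 t.2.1)
    exact_mod_cast (Nat.le_add_right _ _).trans this

theorem exists_embedding [IsLocallyNoetherian S] (hreg : ∀ s : S, IsRegularLocalRing ↑(S.presheaf.stalk s))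
    (g : X ⟶ S) [LocallyOfFiniteType g] (x : X) :
    ∃ U : X.Opens, x ∈ U ∧ ∃ (P : Scheme.{u}) (q : P ⟶ S) (i : U.toScheme ⟶ P),
      LocallyOfFiniteType q ∧ IsClosedImmersion i ∧ IsNoetherian P ∧ IrreducibleSpace P ∧
        ∀ p : P, IsRegularLocalRing ↑(P.presheaf.stalk p) := by
  haveI := hreg (g x)
  haveI : IsDomain (S.presheaf.stalk (g x)) := RegLoc6.isDomain_of_isRegularLocalRing _
  obtain ⟨V₀, hxV₀, hV₀⟩ := H23.FinCondSch.exists_integral_nhd (g x)
  obtain ⟨V, hV, hxV, hVV₀⟩ := exists_isAffineOpen_mem_and_subset (U := V₀) hxV₀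
  haveI : Nonempty V.toScheme := ⟨⟨g x, hxV⟩⟩
  haveI : IsIntegral V.toScheme := isIntegral_of_isOpenImmersion (S.homOfLE hVV₀)
  haveI : IsDomain Γ(S, V) := V.topIso.commRingCatIsoToRingEquiv.toMulEquiv.symm.isDomain Γ(V.toScheme, ⊤)
  haveI : IsNoetherianRing Γ(S, V) := IsLocallyNoetherian.component_noetherian ⟨V, hV⟩
  haveI := KRegLib.isRegularRing_sections hreg hV
  obtain ⟨U, hU, hxU, hUV⟩ := exists_isAffineOpen_mem_and_subset (U := g ⁻¹ᵁ V) (x := x) hxV
  let φ := g.appLE V U hUV
  letI : Algebra Γ(S, V) Γ(X, U) := φ.hom.toAlgebra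
  haveI : Algebra.FiniteType Γ(S, V) Γ(X, U) := g.finiteType_appLE hV hU hUV
  obtain ⟨m, π, hπ⟩ := Algebra.FiniteType.iff_quotient_mvPolynomial''.1
    (inferInstance : Algebra.FiniteType Γ(S, V) Γ(X, U))
  let A : CommRingCat.{u} := CommRingCat.of (MvPolynomial (Fin m) Γ(S, V))
  haveI : IsRegularRing A := inferInstanceAs (IsRegularRing (MvPolynomial (Fin m) Γ(S, V)))
  haveI : IsNoetherianRing A := inferInstanceAs (IsNoetherianRing (MvPolynomial (Fin m) Γ(S, V)))
  haveI : IsDomain A := inferInstanceAs (IsDomain (MvPolynomial (Fin m) Γ(S, V)))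
  let c : Γ(S, V) ⟶ A := CommRingCat.ofHom MvPolynomial.C
  haveI : IsClosedImmersion (Spec.map (CommRingCat.ofHom π.toRingHom) : Spec Γ(X, U) ⟶ Spec A) :=
    IsClosedImmersion.spec_of_surjective _ hπ
  haveI : LocallyOfFiniteType (Spec.map c) := by
    rw [HasRingHomProperty.Spec_iff (P := @LocallyOfFiniteType)]
    exact RingHom.finiteType_algebraMap.2 (inferInstance : Algebra.FiniteType Γ(S, V) (MvPolynomial (Fin m) Γ(S, V)))
  exact ⟨U, hxU, Spec A, Spec.map c ≫ hV.fromSpec, hU.isoSpec.hom ≫ Spec.map (CommRingCat.ofHom π.toRingHom),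
    inferInstance, inferInstance, inferInstance, inferInstance, isRegularLocalRing_stalk_Spec A⟩

/-- Lower semicontinuity of the rectified depth. -/
theorem isOpen_prof [IsLocallyNoetherian S] [JacobsonSpace S] (hreg : ∀ s : S, IsRegularLocalRing ↑(S.presheaf.stalk s))
    (hS : DimGood S) (g : X ⟶ S) [LocallyOfFiniteType g] (F : X.Modules) (hF : Coh.IsCoh F) (n : ℕ) :
    IsOpen {x : X | (n : WithBot ℕ∞) ≤ prof F x} := by
  haveI := LocallyOfFiniteType.isLocallyNoetherian g
  haveI := LocallyOfFiniteType.jacobsonSpace g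
  rw [isOpen_iff_forall_mem_open]
  intro x hx
  obtain ⟨U, hxU, P, q, i, _, _, _, _, hP⟩ := exists_embedding hreg g x
  haveI := LocallyOfFiniteType.jacobsonSpace q
  haveI := LocallyOfFiniteType.jacobsonSpace (U.ι ≫ g)
  have hGX := dimGood_over hreg hS g
  have hGU := dimGood_over hreg hS (U.ι ≫ g)
  have hGP := dimGood_over hreg hS q
  have hFU := KZ.Localization.isCoh_restrict U.ι hF
  let O := {p : P | (n : WithBot ℕ∞) ≤ prof ((Coh.push i).obj (F.restrict U.ι)) p}
  have hO : IsOpen O := isOpen_prof_irreducible hGP hP (QCoh.isCoh_pushforward_finite i hFU) n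
  have key : ∀ z : U.toScheme, prof F (U.ι z) = prof ((Coh.push i).obj (F.restrict U.ι)) (i z) := fun z => by
    rw [prof_push i hGU hGP, prof_restrict U.ι hGU hGX]
  refine ⟨U.ι '' (i ⁻¹' O), ?_, U.ι.isOpenEmbedding.isOpenMap _ (hO.preimage i.continuous), ⟨x, hxU⟩, ?_, rfl⟩
  · rintro _ ⟨z, hz, rfl⟩
    show (n : WithBot ℕ∞) ≤ prof F (U.ι z)
    rw [key]
    exact hz
  · show (n : WithBot ℕ∞) ≤ _
    rw [← key ⟨x, hxU⟩]
    exact hx

theorem dd_eq_zero_of_isClosed [IsLocallyNoetherian X] (h : DimGood X) {x : X} (hx : IsClosed ({x} : Set X)) :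
    dd x = 0 := by
  have h1 := h.dd_eq (specializes_refl x) hx
  have h2 := h.dd_add (specializes_refl x)
  omega

theorem exists_nhd_prof_eq [IsLocallyNoetherian S] [JacobsonSpace S] (hreg : ∀ s : S, IsRegularLocalRing ↑(S.presheaf.stalk s))
    (hS : DimGood S) (g : X ⟶ S) [LocallyOfFiniteType g] (F : X.Modules) (hF : Coh.IsCoh F) (x : X) :
    ∃ U : X.Opens, x ∈ U ∧ ∀ y ∈ U, x ⤳ y → prof F y = prof F x := by
  haveI := LocallyOfFiniteType.isLocallyNoetherian g
  haveI := LocallyOfFiniteType.jacobsonSpace g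
  have hX := dimGood_over hreg hS g
  by_cases hx : x ∈ CohB1.support F
  · haveI : Nontrivial (F.presheaf.stalk x) := not_subsingleton_iff_nontrivial.1 hx
    haveI := QCoh.finite_stalk_of_isFT hF.1 hF.2 x
    obtain ⟨a, ha⟩ := LC.exists_depth_eq_nat (R := X.presheaf.stalk x) (F.presheaf.stalk x)
    have hk : prof F x = ((a + dd x : ℕ) : WithBot ℕ∞) := by
      rw [prof, ha, hX.dim_closure]
      norm_cast
    refine ⟨⟨_, isOpen_prof hreg hS g F hF (a + dd x)⟩, hk.ge, fun y hy hxy => le_antisymm ?_ (hk.le.trans hy)⟩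
    by_contra hlt
    rw [not_le, hk] at hlt
    have hy' : ((a + dd x + 1 : ℕ) : WithBot ℕ∞) ≤ prof F y := by
      have hpy : prof F y = ((LocCoh.depth (X.presheaf.stalk y) (F.presheaf.stalk y) + dd y : ℕ∞) : WithBot ℕ∞) := by
        rw [prof, hX.dim_closure]
        rfl
      rw [hpy] at hlt ⊢
      exact WithBot.coe_le_coe.2 (Order.add_one_le_of_lt (WithBot.coe_lt_coe.1 hlt))
    have h2 := hxy.mem_open (isOpen_prof hreg hS g F hF (a + dd x + 1)) hy'
    rw [Set.mem_ofPred_eq, hk] at h2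
    exact absurd h2 (not_le.2 (by exact_mod_cast Nat.lt_succ_self _))
  · have htop : ∀ y, y ∉ CohB1.support F → prof F y = ((⊤ : ℕ∞) : WithBot ℕ∞) := fun y hy => by
      have hs : Subsingleton (F.presheaf.stalk y) := by
        by_contra h
        exact hy h
      rw [prof, FlatLoc6.depth_top_of_subsingleton, hX.dim_closure, ← WithBot.coe_add, top_add]
    exact ⟨⟨_, (QCoh.isClosed_support_of_isFT hF.1 hF.2).isOpen_compl⟩, hx,
      fun y hy _ => by rw [htop y hy, htop x hx]⟩

theorem iff_prof [IsLocallyNoetherian S] [JacobsonSpace S] (hreg : ∀ s : S, IsRegularLocalRing ↑(S.presheaf.stalk s))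
    (hS : DimGood S) (g : X ⟶ S) [LocallyOfFiniteType g] (F : X.Modules) (hF : Coh.IsCoh F) (x : X) (n : ℕ∞) :
    (∃ U : X.Opens, x ∈ U ∧ ∀ x' : ↥U, (x' : X) ∈ closure ({x} : Set X) → IsClosed ({x'} : Set ↥U) →
      LocCoh.depth ↑(X.presheaf.stalk (x' : X)) ↑(F.presheaf.stalk (x' : X)) = n) ↔
      ((n : WithBot ℕ∞) = prof F x) := by
  haveI := LocallyOfFiniteType.isLocallyNoetherian g
  haveI := LocallyOfFiniteType.jacobsonSpace g
  have hX := dimGood_over hreg hS g
  obtain ⟨U₀, hxU₀, hU₀⟩ := exists_nhd_prof_eq hreg hS g F hF x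
  have key : ∀ y ∈ U₀, x ⤳ y → IsClosed ({y} : Set X) →
      ((LocCoh.depth (X.presheaf.stalk y) (F.presheaf.stalk y) : ℕ∞) : WithBot ℕ∞) = prof F x := fun y hy hxy hc => by
    rw [← hU₀ y hy hxy, prof, hX.dim_closure, dd_eq_zero_of_isClosed hX hc]
    simp
  constructor
  · rintro ⟨U, hxU, hU⟩
    obtain ⟨y, ⟨⟨hy, hyU, hyU₀⟩, hc⟩⟩ := nonempty_inter_closedPoints (Z := closure {x} ∩ ((U : Set X) ∩ U₀))
      ⟨x, subset_closure rfl, hxU, hxU₀⟩ (isClosed_closure.isLocallyClosed.inter (U.isOpen.inter U₀.isOpen).isLocallyClosed)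
    have hcU : IsClosed ({(⟨y, hyU⟩ : ↥U)} : Set ↥U) := by
      have := (show IsClosed ({y} : Set X) from hc).preimage (continuous_subtype_val (p := (· ∈ U)))
      convert this
      ext z
      exact Subtype.ext_iff
    rw [← hU ⟨y, hyU⟩ hy hcU]
    exact key y hyU₀ (specializes_iff_mem_closure.2 hy) hc
  · intro hn
    refine ⟨U₀, hxU₀, fun x' hx' hc => ?_⟩
    have hc' : IsClosed ({(x' : X)} : Set X) :=
      U₀.ι.closePoints_subset_preimage_closedPoints hc
    exact WithBot.coe_injective ((key x' x'.2 (specializes_iff_mem_closure.2 hx') hc').trans hn.symm)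

end Groth.Agent.RectJac
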